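import Cfsg.Agent.Y5.Kit

set_option autoImplicit false
set_option linter.all false
set_option maxRecDepth 100000

namespace Cfsg.Agent.TC.Y5

open Cfsg.Agent.M24

def m2_t0 : T := (.node (.node (.node (.node (.node (.node (.node .nil (nat_lit 0) (nat_lit 0) (nat_lit 0)
  .nil) (nat_lit 1) (nat_lit 16) (nat_lit 0) (.node .nil (nat_lit 2) (nat_lit 33) (nat_lit 0) .nil)) (nat_lit
  3) (nat_lit 50) (nat_lit 0) (.node (.node .nil (nat_lit 4) (nat_lit 67) (nat_lit 0) .nil) (nat_lit 5)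
  (nat_lit 84) (nat_lit 0) (.node .nil (nat_lit 6) (nat_lit 101) (nat_lit 0) .nil))) (nat_lit 7) (nat_lit 119)
  (nat_lit 0) (.node (.node (.node .nil (nat_lit 8) (nat_lit 130) (nat_lit 1) .nil) (nat_lit 9) (nat_lit 147)
  (nat_lit 1) (.node .nil (nat_lit 10) (nat_lit 163) (nat_lit 2) .nil)) (nat_lit 11) (nat_lit 181) (nat_lit 2)
  (.node (.node .nil (nat_lit 12) (nat_lit 199) (nat_lit 2) .nil) (nat_lit 13) (nat_lit 212) (nat_lit 3)
  (.node .nil (nat_lit 14) (nat_lit 229) (nat_lit 3) .nil)))) (nat_lit 15) (nat_lit 247) (nat_lit 3) (.node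
  (.node (.node (.node .nil (nat_lit 16) (nat_lit 260) (nat_lit 4) .nil) (nat_lit 17) (nat_lit 277) (nat_lit
  4) (.node .nil (nat_lit 18) (nat_lit 294) (nat_lit 4) .nil)) (nat_lit 19) (nat_lit 311) (nat_lit 4) (.node
  (.node .nil (nat_lit 20) (nat_lit 325) (nat_lit 5) .nil) (nat_lit 21) (nat_lit 337) (nat_lit 8) (.node .nil
  (nat_lit 22) (nat_lit 358) (nat_lit 9) .nil))) (nat_lit 23) (nat_lit 370) (nat_lit 10) (.node (.node (.node
  .nil (nat_lit 24) (nat_lit 389) (nat_lit 10) .nil) (nat_lit 25) (nat_lit 406) (nat_lit 10) (.node .nil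
  (nat_lit 26) (nat_lit 423) (nat_lit 10) .nil)) (nat_lit 27) (nat_lit 432) (nat_lit 11) (.node (.node .nil
  (nat_lit 28) (nat_lit 449) (nat_lit 13) .nil) (nat_lit 29) (nat_lit 469) (nat_lit 13) .nil)))) (nat_lit 30)
  (nat_lit 485) (nat_lit 16) (.node (.node (.node (.node (.node .nil (nat_lit 31) (nat_lit 502) (nat_lit 16)
  .nil) (nat_lit 32) (nat_lit 518) (nat_lit 17) (.node .nil (nat_lit 33) (nat_lit 535) (nat_lit 18) .nil))
  (nat_lit 34) (nat_lit 552) (nat_lit 18) (.node (.node .nil (nat_lit 35) (nat_lit 568) (nat_lit 22) .nil)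
  (nat_lit 36) (nat_lit 581) (nat_lit 23) (.node .nil (nat_lit 37) (nat_lit 598) (nat_lit 23) .nil))) (nat_lit
  38) (nat_lit 615) (nat_lit 23) (.node (.node (.node .nil (nat_lit 39) (nat_lit 624) (nat_lit 24) .nil)
  (nat_lit 40) (nat_lit 646) (nat_lit 24) (.node .nil (nat_lit 41) (nat_lit 663) (nat_lit 25) .nil)) (nat_lit
  42) (nat_lit 680) (nat_lit 25) (.node (.node .nil (nat_lit 43) (nat_lit 693) (nat_lit 28) .nil) (nat_lit 44)
  (nat_lit 710) (nat_lit 30) .nil))) (nat_lit 45) (nat_lit 728) (nat_lit 31) (.node (.node (.node (.node .nil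
  (nat_lit 46) (nat_lit 744) (nat_lit 32) .nil) (nat_lit 47) (nat_lit 760) (nat_lit 33) (.node .nil (nat_lit
  48) (nat_lit 768) (nat_lit 36) .nil)) (nat_lit 49) (nat_lit 790) (nat_lit 36) (.node (.node .nil (nat_lit
  50) (nat_lit 803) (nat_lit 37) .nil) (nat_lit 51) (nat_lit 823) (nat_lit 37) (.node .nil (nat_lit 52)
  (nat_lit 840) (nat_lit 37) .nil))) (nat_lit 53) (nat_lit 854) (nat_lit 39) (.node (.node (.node .nil
  (nat_lit 54) (nat_lit 872) (nat_lit 40) .nil) (nat_lit 55) (nat_lit 888) (nat_lit 41) (.node .nil (nat_lit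
  56) (nat_lit 896) (nat_lit 43) .nil)) (nat_lit 57) (nat_lit 920) (nat_lit 44) (.node (.node .nil (nat_lit
  58) (nat_lit 929) (nat_lit 48) .nil) (nat_lit 59) (nat_lit 950) (nat_lit 48) .nil))))) (nat_lit 60) (nat_lit
  963) (nat_lit 49) (.node (.node (.node (.node (.node (.node .nil (nat_lit 61) (nat_lit 984) (nat_lit 49)
  .nil) (nat_lit 62) (nat_lit 999) (nat_lit 50) (.node .nil (nat_lit 63) (nat_lit 1016) (nat_lit 50) .nil))
  (nat_lit 64) (nat_lit 1032) (nat_lit 51) (.node (.node .nil (nat_lit 65) (nat_lit 1048) (nat_lit 53) .nil)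
  (nat_lit 66) (nat_lit 1060) (nat_lit 58) (.node .nil (nat_lit 67) (nat_lit 1078) (nat_lit 58) .nil)))
  (nat_lit 68) (nat_lit 1091) (nat_lit 59) (.node (.node (.node .nil (nat_lit 69) (nat_lit 1112) (nat_lit 59)
  .nil) (nat_lit 70) (nat_lit 1128) (nat_lit 60) (.node .nil (nat_lit 71) (nat_lit 1144) (nat_lit 62) .nil))
  (nat_lit 72) (nat_lit 1158) (nat_lit 63) (.node (.node .nil (nat_lit 73) (nat_lit 1174) (nat_lit 66) .nil)
  (nat_lit 74) (nat_lit 1187) (nat_lit 67) .nil))) (nat_lit 75) (nat_lit 1208) (nat_lit 67) (.node (.node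
  (.node (.node .nil (nat_lit 76) (nat_lit 1224) (nat_lit 68) .nil) (nat_lit 77) (nat_lit 1238) (nat_lit 70)
  (.node .nil (nat_lit 78) (nat_lit 1254) (nat_lit 71) .nil)) (nat_lit 79) (nat_lit 1267) (nat_lit 73) (.node
  (.node .nil (nat_lit 80) (nat_lit 1288) (nat_lit 73) .nil) (nat_lit 81) (nat_lit 1298) (nat_lit 74) (.node
  .nil (nat_lit 82) (nat_lit 1320) (nat_lit 74) .nil))) (nat_lit 83) (nat_lit 1334) (nat_lit 76) (.node (.node
  (.node .nil (nat_lit 84) (nat_lit 1346) (nat_lit 79) .nil) (nat_lit 85) (nat_lit 1368) (nat_lit 79) (.node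
  .nil (nat_lit 86) (nat_lit 1384) (nat_lit 81) .nil)) (nat_lit 87) (nat_lit 1398) (nat_lit 82) (.node (.node
  .nil (nat_lit 88) (nat_lit 1409) (nat_lit 84) .nil) (nat_lit 89) (nat_lit 1432) (nat_lit 84) .nil))))
  (nat_lit 90) (nat_lit 1446) (nat_lit 85) (.node (.node (.node (.node (.node .nil (nat_lit 91) (nat_lit 1462)
  (nat_lit 86) .nil) (nat_lit 92) (nat_lit 1472) (nat_lit 88) (.node .nil (nat_lit 93) (nat_lit 1496) (nat_lit
  88) .nil)) (nat_lit 94) (nat_lit 1510) (nat_lit 89) (.node (.node .nil (nat_lit 95) (nat_lit 1523) (nat_lit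
  91) .nil) (nat_lit 96) (nat_lit 1541) (nat_lit 92) (.node .nil (nat_lit 97) (nat_lit 1560) (nat_lit 92)
  .nil))) (nat_lit 98) (nat_lit 1574) (nat_lit 93) (.node (.node (.node .nil (nat_lit 99) (nat_lit 1587)
  (nat_lit 94) .nil) (nat_lit 100) (nat_lit 1607) (nat_lit 96) (.node .nil (nat_lit 101) (nat_lit 1624)
  (nat_lit 96) .nil)) (nat_lit 102) (nat_lit 1638) (nat_lit 97) (.node (.node .nil (nat_lit 103) (nat_lit
  1651) (nat_lit 98) .nil) (nat_lit 104) (nat_lit 1672) (nat_lit 100) .nil))) (nat_lit 105) (nat_lit 1686)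
  (nat_lit 101) (.node (.node (.node (.node .nil (nat_lit 106) (nat_lit 1699) (nat_lit 102) .nil) (nat_lit
  107) (nat_lit 1714) (nat_lit 103) (.node .nil (nat_lit 108) (nat_lit 1734) (nat_lit 104) .nil)) (nat_lit
  109) (nat_lit 1747) (nat_lit 105) (.node (.node .nil (nat_lit 110) (nat_lit 1762) (nat_lit 106) .nil)
  (nat_lit 111) (nat_lit 1779) (nat_lit 108) (.node .nil (nat_lit 112) (nat_lit 1794) (nat_lit 109) .nil)))
  (nat_lit 113) (nat_lit 1809) (nat_lit 110) (.node (.node (.node .nil (nat_lit 114) (nat_lit 1826) (nat_lit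
  111) .nil) (nat_lit 115) (nat_lit 1841) (nat_lit 112) (.node .nil (nat_lit 116) (nat_lit 1860) (nat_lit 113)
  .nil)) (nat_lit 117) (nat_lit 1873) (nat_lit 114) (.node (.node .nil (nat_lit 118) (nat_lit 1888) (nat_lit
  115) .nil) (nat_lit 119) (nat_lit 1908) (nat_lit 115) .nil))))))
def m2_l0 : Lvl := ⟨nat_lit 0, [nat_lit 0x3c79ebcfbf4edcb8f0dfaf6ecdd9f4e8d58b2e4c79aee0bf7b0d8b76acdcaf5aad49b4a8d09f3a9c6972a4c88f31ebc8709b407efa2c462e9cab6f0543466c9da45ab97ac70a94b530992b0448cfa04278e9c1668ca72e48a9420588931a3878c36282030a183891008001, nat_lit 0x3c79efdb974e1d7773dfc76ecd7ab4e8c79b2e4cf7b0e0bf8acdcb76aed4a75aad8af328d09f3a6d28b124c88f1a5ca770a0c07ef9ebc86c1cb85eb9ab466c98ba6ed96ac3a890a04e992a446a94a83e7958d364c9112e584143464c101e38e070c10495182c28a0600082, nat_lit 0x3c79efdbaf4e7bf8ede5ab86ccfbb4e8d79b2e4c78b0e0bf6aedcaf7aad8b74accfa75a550a93a6cc97464c88f1a0c4870a2b77ef9b3c6ae9cb880f5daa52c94275eb96ac56d19b16068c9846890a03e78a1c36992a41458a9d26488900e1828c165c4811e386840008403,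 nat_lit 0x3c79efdbaf4e7cb8f0d9bb4efd79b6e8c5ab2e4bd9f0e0b78eedcbf6acd8af5a854a72e8d5933a6c5a50e7c880f663b950a0c768ce33188e9cb86ed9abf7c95e305eb96ac56a94a8369992446890a03e50e9c4e30c8b2e58a9e0e483051e3869a300808826448000628484, nat_lit 0x3c79e7d7b71efcba70dfbb6ecd7ab4e8cf9b2e4bf8b0e0c76eedcbd5eb58b566951a756a4b953a6cca13e1c88f1a2c492ea0c07ef9ebc77097386ed9ab466c98b046e512056a94a84e992a45eb4b2c244471c3668c982e84a86127cf04107418c162898f02500101a08385, nat_lit 0x3c79e9dbaf7e3cb9eedfc356cd7b7368cfa70e4c78b2dcbf7aee0b76acd8af5aad4a74a8d09f3a44c972a4cd8efe2c4870a0c08cf9a3276e96b86ea9abd66f12b05e89c9f38d94994e9989746b909258406ab366940a4858a85268021e1e0ce8c04604880e00a111c2c086, nat_lit 0x3c79efdbaf4e7cb8f0dfbb6e8d7ab2eccf874e4c777360bf6715cad56f58a56ed54995e8d09f1e353972a13f9d362c475260c090f9ebc610dcb86ed93b44cc923b5eb969e56a8d186accbb1468899120b0e9c36a45284a24a94421101f1e3868c1664b080e182920608080, nat_lit 0x3c79eddf9f4ebc38f2dbbb7e9d7ab665cf9b460c78b0e4bf7aedcb76acd8af5aad4a74a8d09f226cc972a4ce7f1a2c4870a0b48ec9ebc76e9cb854d9ac04af98b044b91ac56dcca84e5d9a45abc9202c78e9536294984c7ce1408848890638402166880d00180931e30287,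 nat_lit 0x3c79efdbaf4e7cb8f0dfbb6ecd7ab4e4cf9b068c78ae65bf7ac61b76aa5daf467d9a72ab49ab3a6c4874a8487cf1dcc9709ab3651d8c68ae963852a20a580fdeb04280fb95665bb64e99a242c497ae5a78e9c36695182e8ca9426888901e3868c16284880e182840608080], [nat_lit 0, nat_lit 0, nat_lit 0, nat_lit 0, nat_lit 0, nat_lit 0, nat_lit 0, nat_lit 0, nat_lit 0], m2_t0⟩
def m2_t1 : T := (.node (.node (.node (.node (.node (.node (.node .nil (nat_lit 1) (nat_lit 0) (nat_lit 1)
  .nil) (nat_lit 2) (nat_lit 18) (nat_lit 1) (.node .nil (nat_lit 3) (nat_lit 101) (nat_lit 2) .nil)) (nat_lit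
  4) (nat_lit 246) (nat_lit 3) (.node (.node .nil (nat_lit 5) (nat_lit 162) (nat_lit 12) .nil) (nat_lit 6)
  (nat_lit 36) (nat_lit 1) (.node .nil (nat_lit 7) (nat_lit 276) (nat_lit 20) .nil))) (nat_lit 8) (nat_lit
  500) (nat_lit 14) (.node (.node (.node .nil (nat_lit 9) (nat_lit 630) (nat_lit 8) .nil) (nat_lit 10)
  (nat_lit 754) (nat_lit 9) (.node .nil (nat_lit 11) (nat_lit 211) (nat_lit 27) .nil)) (nat_lit 12) (nat_lit
  67) (nat_lit 2) (.node (.node .nil (nat_lit 13) (nat_lit 1238) (nat_lit 16) .nil) (nat_lit 14) (nat_lit 373)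
  (nat_lit 11) .nil))) (nat_lit 15) (nat_lit 181) (nat_lit 12) (.node (.node (.node (.node .nil (nat_lit 16)
  (nat_lit 1058) (nat_lit 26) .nil) (nat_lit 17) (nat_lit 518) (nat_lit 14) (.node .nil (nat_lit 18) (nat_lit
  416) (nat_lit 4) .nil)) (nat_lit 19) (nat_lit 342) (nat_lit 15) (.node (.node .nil (nat_lit 20) (nat_lit
  131) (nat_lit 6) .nil) (nat_lit 21) (nat_lit 53) (nat_lit 1) (.node .nil (nat_lit 22) (nat_lit 736) (nat_lit
  9) .nil))) (nat_lit 23) (nat_lit 118) (nat_lit 2) (.node (.node (.node .nil (nat_lit 24) (nat_lit 803)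
  (nat_lit 39) .nil) (nat_lit 25) (nat_lit 882) (nat_lit 22) (.node .nil (nat_lit 26) (nat_lit 899) (nat_lit
  10) .nil)) (nat_lit 27) (nat_lit 84) (nat_lit 2) (.node (.node .nil (nat_lit 28) (nat_lit 147) (nat_lit 21)
  .nil) (nat_lit 29) (nat_lit 324) (nat_lit 15) .nil)))) (nat_lit 30) (nat_lit 454) (nat_lit 29) (.node (.node
  (.node (.node (.node .nil (nat_lit 31) (nat_lit 1202) (nat_lit 41) .nil) (nat_lit 32) (nat_lit 640) (nat_lit
  17) (.node .nil (nat_lit 33) (nat_lit 464) (nat_lit 19) .nil)) (nat_lit 34) (nat_lit 577) (nat_lit 18)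
  (.node (.node .nil (nat_lit 35) (nat_lit 865) (nat_lit 22) .nil) (nat_lit 36) (nat_lit 390) (nat_lit 11)
  (.node .nil (nat_lit 37) (nat_lit 256) (nat_lit 23) .nil))) (nat_lit 38) (nat_lit 198) (nat_lit 12) (.node
  (.node (.node .nil (nat_lit 39) (nat_lit 658) (nat_lit 17) .nil) (nat_lit 40) (nat_lit 931) (nat_lit 53)
  (.node .nil (nat_lit 41) (nat_lit 1027) (nat_lit 25) .nil)) (nat_lit 42) (nat_lit 1010) (nat_lit 35) (.node
  (.node .nil (nat_lit 43) (nat_lit 293) (nat_lit 20) .nil) (nat_lit 44) (nat_lit 592) (nat_lit 30) .nil)))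
  (nat_lit 45) (nat_lit 1346) (nat_lit 55) (.node (.node (.node (.node .nil (nat_lit 46) (nat_lit 769)
  (nat_lit 32) .nil) (nat_lit 47) (nat_lit 609) (nat_lit 33) (.node .nil (nat_lit 48) (nat_lit 230) (nat_lit
  27) .nil)) (nat_lit 49) (nat_lit 528) (nat_lit 36) (.node (.node .nil (nat_lit 50) (nat_lit 1046) (nat_lit
  25) .nil) (nat_lit 51) (nat_lit 352) (nat_lit 38) (.node .nil (nat_lit 52) (nat_lit 433) (nat_lit 37)
  .nil))) (nat_lit 53) (nat_lit 786) (nat_lit 32) (.node (.node (.node .nil (nat_lit 54) (nat_lit 1075)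
  (nat_lit 65) .nil) (nat_lit 55) (nat_lit 1171) (nat_lit 42) (.node .nil (nat_lit 56) (nat_lit 308) (nat_lit
  28) .nil)) (nat_lit 57) (nat_lit 721) (nat_lit 44) (.node (.node .nil (nat_lit 58) (nat_lit 546) (nat_lit
  36) .nil) (nat_lit 59) (nat_lit 400) (nat_lit 48) .nil))))) (nat_lit 60) (nat_lit 1110) (nat_lit 40) (.node
  (.node (.node (.node (.node (.node .nil (nat_lit 61) (nat_lit 673) (nat_lit 49) .nil) (nat_lit 62) (nat_lit
  1222) (nat_lit 41) (.node .nil (nat_lit 63) (nat_lit 1190) (nat_lit 42) .nil)) (nat_lit 64) (nat_lit 481)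
  (nat_lit 51) (.node (.node .nil (nat_lit 65) (nat_lit 914) (nat_lit 46) .nil) (nat_lit 66) (nat_lit 707)
  (nat_lit 58) (.node .nil (nat_lit 67) (nat_lit 690) (nat_lit 49) .nil))) (nat_lit 68) (nat_lit 950) (nat_lit
  53) (.node (.node (.node .nil (nat_lit 69) (nat_lit 561) (nat_lit 59) .nil) (nat_lit 70) (nat_lit 1254)
  (nat_lit 54) (.node .nil (nat_lit 71) (nat_lit 1366) (nat_lit 55) .nil)) (nat_lit 72) (nat_lit 1376)
  (nat_lit 63) (.node (.node .nil (nat_lit 73) (nat_lit 835) (nat_lit 67) .nil) (nat_lit 74) (nat_lit 1282)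
  (nat_lit 60) .nil))) (nat_lit 75) (nat_lit 818) (nat_lit 61) (.node (.node (.node (.node .nil (nat_lit 76)
  (nat_lit 1094) (nat_lit 65) .nil) (nat_lit 77) (nat_lit 1392) (nat_lit 70) (.node .nil (nat_lit 78) (nat_lit
  1488) (nat_lit 71) .nil)) (nat_lit 79) (nat_lit 1427) (nat_lit 74) (.node (.node .nil (nat_lit 80) (nat_lit
  963) (nat_lit 75) .nil) (nat_lit 81) (nat_lit 854) (nat_lit 67) (.node .nil (nat_lit 82) (nat_lit 1410)
  (nat_lit 70) .nil))) (nat_lit 83) (nat_lit 1264) (nat_lit 76) (.node (.node (.node .nil (nat_lit 84)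
  (nat_lit 998) (nat_lit 73) .nil) (nat_lit 85) (nat_lit 1523) (nat_lit 82) (.node .nil (nat_lit 86) (nat_lit
  982) (nat_lit 75) .nil)) (nat_lit 87) (nat_lit 1506) (nat_lit 77) (.node (.node .nil (nat_lit 88) (nat_lit
  1331) (nat_lit 92) .nil) (nat_lit 89) (nat_lit 1126) (nat_lit 80) .nil)))) (nat_lit 90) (nat_lit 1603)
  (nat_lit 87) (.node (.node (.node (.node (.node .nil (nat_lit 91) (nat_lit 1136) (nat_lit 86) .nil) (nat_lit
  92) (nat_lit 1154) (nat_lit 84) (.node .nil (nat_lit 93) (nat_lit 1459) (nat_lit 97) .nil)) (nat_lit 94)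
  (nat_lit 1296) (nat_lit 89) (.node (.node .nil (nat_lit 95) (nat_lit 1622) (nat_lit 87) .nil) (nat_lit 96)
  (nat_lit 1476) (nat_lit 88) (.node .nil (nat_lit 97) (nat_lit 1314) (nat_lit 89) .nil))) (nat_lit 98)
  (nat_lit 1539) (nat_lit 102) (.node (.node (.node .nil (nat_lit 99) (nat_lit 1686) (nat_lit 90) .nil)
  (nat_lit 100) (nat_lit 1587) (nat_lit 96) (.node .nil (nat_lit 101) (nat_lit 1572) (nat_lit 93) .nil))
  (nat_lit 102) (nat_lit 1442) (nat_lit 94) (.node (.node .nil (nat_lit 103) (nat_lit 1811) (nat_lit 106)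
  .nil) (nat_lit 104) (nat_lit 1667) (nat_lit 101) .nil))) (nat_lit 105) (nat_lit 1636) (nat_lit 98) (.node
  (.node (.node (.node .nil (nat_lit 106) (nat_lit 1746) (nat_lit 99) .nil) (nat_lit 107) (nat_lit 1654)
  (nat_lit 98) (.node .nil (nat_lit 108) (nat_lit 1699) (nat_lit 105) .nil)) (nat_lit 109) (nat_lit 1860)
  (nat_lit 103) (.node (.node .nil (nat_lit 110) (nat_lit 1558) (nat_lit 102) .nil) (nat_lit 111) (nat_lit
  1877) (nat_lit 117) (.node .nil (nat_lit 112) (nat_lit 1718) (nat_lit 105) .nil))) (nat_lit 113) (nat_lit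
  1730) (nat_lit 107) (.node (.node (.node .nil (nat_lit 114) (nat_lit 1766) (nat_lit 108) .nil) (nat_lit 115)
  (nat_lit 1893) (nat_lit 109) (.node .nil (nat_lit 116) (nat_lit 1795) (nat_lit 113) .nil)) (nat_lit 117)
  (nat_lit 1844) (nat_lit 116) (.node (.node .nil (nat_lit 118) (nat_lit 1778) (nat_lit 112) .nil) (nat_lit
  119) (nat_lit 1826) (nat_lit 114) .nil))))))
def m2_l1 : Lvl := ⟨nat_lit 1, [nat_lit 0x3c79efdbaf4e7cb8f0dfbb6e8d7ab2eccf874e4c777360bf6715cad56f58a56ed54995e8d09f1e353972a13f9d362c475260c090f9ebc610dcb86ed93b44cc923b5eb969e56a8d186accbb1468899120b0e9c36a45284a24a94421101f1e3868c1664b080e182920608080, nat_lit 0x3c79efdbaf4e7cb8f0dfbb6ecd7ab4e4cf9b068c78ae65bf7ac61b76aa5daf467d9a72ab49ab3a6c4874a8487cf1dcc9709ab3651d8c68ae963852a20a580fdeb04280fb95665bb64e99a242c497ae5a78e9c36695182e8ca9426888901e3868c16284880e182840608080, nat_lit 0x3c79e5c3af4e7df5f6dfbb6ece38f4e8cf7b2e4d58ace0bf9aed4b76b0d89b5aadca71a8d09f3abcc7af24c88f4a2c463097407efa5ca7691c9d5ad903466ca1b05f05bac568cfa822992ba54890b55279c0f0c40b182e64194264939a383868516245080e6c6042a04100,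 nat_lit 0x3c79efdbaf1e7c3a72dbaf7e9dd9f665d58b460bf9aee4c76f0d8bd5eb5cb5669519b56a4b95229c6a13e1ce7f31ebc92e9b348eca2c4630972b55054404af9da45ee56a070dccb5305d9b046890ac3e4471516294a74c58e062648f101e7468236684880e502840630080, nat_lit 0x3c79efc7a75e7cbb6bdfbb3ece1ab168db9aee4c7a70d8bf7b2dcb76ace0af5aad4914a8d09f3a6bf972a4d38f19a32870954098f9ebc4ae979c6ed8cc56711897728d6a157054a81499da45c896163e4c7b80469a986080a873c484903a2068c169c88e2804284066c300, nat_lit 0x3c79efdb7f4dbcb570ebbb9ecc7c74e8cf9b2e4d76b0e0bf7aadca78accfaf32ed4b74a250b13a6d6832a4c88f1a2d16b0a5af7ef973c769dcb86eda1a242c903080f56ac28a94a8744c91146d19b13e78e853668c9808580ab4c95210182c68f1c284880e18e17040ca80, nat_lit 0x3c79efdbaf4e7b38e9df9b6f2c5ab868cfbb2e4b5af0e0af7aedcb78e858bf2eac9a74a1d99f3a6c1ad2aa486eda2b5a30a64054a5ea876e9cb88f1a234666589b5eb96ac56fdf3c4e3128b46890a03e74f1c60699180458a941e4870d264482648284090e18283085c080], [nat_lit 7,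 nat_lit 9, nat_lit 1104, nat_lit 1207, nat_lit 1232, nat_lit 2161, nat_lit 3218], m2_t1⟩
def m2_t2 : T := (.node (.node (.node (.node (.node (.node (.node .nil (nat_lit 2) (nat_lit 0) (nat_lit 2)
  .nil) (nat_lit 6) (nat_lit 245) (nat_lit 14) .nil) (nat_lit 10) (nat_lit 324) (nat_lit 58) (.node .nil
  (nat_lit 12) (nat_lit 18) (nat_lit 2) .nil)) (nat_lit 14) (nat_lit 130) (nat_lit 29) (.node (.node .nil
  (nat_lit 17) (nat_lit 210) (nat_lit 30) .nil) (nat_lit 20) (nat_lit 149) (nat_lit 29) (.node .nil (nat_lit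
  21) (nat_lit 340) (nat_lit 6) .nil))) (nat_lit 23) (nat_lit 35) (nat_lit 2) (.node (.node (.node .nil
  (nat_lit 25) (nat_lit 420) (nat_lit 67) .nil) (nat_lit 26) (nat_lit 434) (nat_lit 10) (.node .nil (nat_lit
  28) (nat_lit 450) (nat_lit 21) .nil)) (nat_lit 29) (nat_lit 68) (nat_lit 12) (.node (.node .nil (nat_lit 30)
  (nat_lit 116) (nat_lit 38) .nil) (nat_lit 32) (nat_lit 274) (nat_lit 44) (.node .nil (nat_lit 37) (nat_lit
  80) (nat_lit 23) .nil)))) (nat_lit 38) (nat_lit 51) (nat_lit 12) (.node (.node (.node (.node .nil (nat_lit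
  41) (nat_lit 562) (nat_lit 25) .nil) (nat_lit 42) (nat_lit 500) (nat_lit 75) (.node .nil (nat_lit 44)
  (nat_lit 196) (nat_lit 51) .nil)) (nat_lit 46) (nat_lit 354) (nat_lit 57) (.node (.node .nil (nat_lit 50)
  (nat_lit 532) (nat_lit 81) .nil) (nat_lit 51) (nat_lit 96) (nat_lit 38) (.node .nil (nat_lit 52) (nat_lit
  161) (nat_lit 37) .nil))) (nat_lit 55) (nat_lit 642) (nat_lit 42) (.node (.node (.node .nil (nat_lit 57)
  (nat_lit 260) (nat_lit 64) .nil) (nat_lit 58) (nat_lit 229) (nat_lit 30) (.node .nil (nat_lit 62) (nat_lit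
  674) (nat_lit 50) .nil)) (nat_lit 63) (nat_lit 612) (nat_lit 86) (.node (.node .nil (nat_lit 64) (nat_lit
  177) (nat_lit 51) .nil) (nat_lit 66) (nat_lit 309) (nat_lit 17) (.node .nil (nat_lit 67) (nat_lit 293)
  (nat_lit 44) .nil))))) (nat_lit 71) (nat_lit 754) (nat_lit 63) (.node (.node (.node (.node (.node .nil
  (nat_lit 72) (nat_lit 724) (nat_lit 91) .nil) (nat_lit 73) (nat_lit 389) (nat_lit 32) (.node .nil (nat_lit
  74) (nat_lit 549) (nat_lit 81) .nil)) (nat_lit 75) (nat_lit 373) (nat_lit 57) (.node (.node .nil (nat_lit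
  78) (nat_lit 818) (nat_lit 72) .nil) (nat_lit 79) (nat_lit 661) (nat_lit 84) (.node .nil (nat_lit 80)
  (nat_lit 469) (nat_lit 46) .nil))) (nat_lit 81) (nat_lit 403) (nat_lit 67) (.node (.node (.node .nil
  (nat_lit 82) (nat_lit 629) (nat_lit 86) .nil) (nat_lit 84) (nat_lit 515) (nat_lit 73) (.node .nil (nat_lit
  85) (nat_lit 709) (nat_lit 89) .nil)) (nat_lit 86) (nat_lit 483) (nat_lit 75) (.node (.node .nil (nat_lit
  87) (nat_lit 741) (nat_lit 91) .nil) (nat_lit 89) (nat_lit 579) (nat_lit 80) (.node .nil (nat_lit 90)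
  (nat_lit 789) (nat_lit 94) .nil)))) (nat_lit 91) (nat_lit 592) (nat_lit 86) (.node (.node (.node (.node .nil
  (nat_lit 94) (nat_lit 688) (nat_lit 89) .nil) (nat_lit 95) (nat_lit 835) (nat_lit 87) (.node .nil (nat_lit
  96) (nat_lit 772) (nat_lit 79) .nil)) (nat_lit 99) (nat_lit 867) (nat_lit 90) (.node (.node .nil (nat_lit
  100) (nat_lit 850) (nat_lit 96) .nil) (nat_lit 101) (nat_lit 804) (nat_lit 85) (.node .nil (nat_lit 104)
  (nat_lit 898) (nat_lit 101) .nil))) (nat_lit 105) (nat_lit 884) (nat_lit 90) (.node (.node (.node .nil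
  (nat_lit 108) (nat_lit 962) (nat_lit 105) .nil) (nat_lit 109) (nat_lit 1010) (nat_lit 111) (.node .nil
  (nat_lit 111) (nat_lit 996) (nat_lit 116) .nil)) (nat_lit 112) (nat_lit 932) (nat_lit 99) (.node (.node .nil
  (nat_lit 113) (nat_lit 917) (nat_lit 95) .nil) (nat_lit 114) (nat_lit 978) (nat_lit 112) (.node .nil
  (nat_lit 116) (nat_lit 949) (nat_lit 99) .nil))))))
def m2_l2 : Lvl := ⟨nat_lit 2, [nat_lit 0x3c79efdbaf4e7cb8f0dfbb6e8d7ab2eccf874e4c777360bf6715cad56f58a56ed54995e8d09f1e353972a13f9d362c475260c090f9ebc610dcb86ed93b44cc923b5eb969e56a8d186accbb1468899120b0e9c36a45284a24a94421101f1e3868c1664b080e182920608080, nat_lit 0x3c79efdbaf4e7cb8f0dfbb6ecd7ab4e4cf9b068c78ae65bf7ac61b76aa5daf467d9a72ab49ab3a6c4874a8487cf1dcc9709ab3651d8c68ae963852a20a580fdeb04280fb95665bb64e99a242c497ae5a78e9c36695182e8ca9426888901e3868c16284880e182840608080, nat_lit 0x3c79efdbaf1e7c3a72dbaf7e9dd9f665d58b460bf9aee4c76f0d8bd5eb5cb5669519b56a4b95229c6a13e1ce7f31ebc92e9b348eca2c4630972b55054404af9da45ee56a070dccb5305d9b046890ac3e4471516294a74c58e062648f101e7468236684880e502840630080,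 nat_lit 0x3c79efdbaf4e7b38e9df9b6f2c5ab868cfbb2e4b5af0e0af7aedcb78e858bf2eac9a74a1d99f3a6c1ad2aa486eda2b5a30a64054a5ea876e9cb88f1a234666589b5eb96ac56fdf3c4e3128b46890a03e74f1c60699180458a941e4870d264482648284090e18283085c080, nat_lit 0x3c79efabaefcfcb8e3e9bb6ecd7dad68e79aae4e18b0cfbf7aedc91a6cd8aeff2d4a749950c13a6cc552a4db8f19144330a0b9acf91bc242a0056ed9ab45944b045eb96b30f2d4a84e792897b150a03e9861c066a1982ec431426ec8901e3869d10e920b5655c303608080, nat_lit 0x3c79eddf9e3ebcaff0dfab6e9cfbb665d74f460e936664e36a344af7aabcb74accfcd5a52ea923161734504e7f760dc58462c08ec9b586a7a58b6ef5db466f942745411c336a94b160992985abc9492ce8a155668ca42e7ce1d08861091e1868270288080e382930630080], [nat_lit 1, nat_lit 2, nat_lit 4, nat_lit 7, nat_lit 5332, nat_lit 0x3312b2], m2_t2⟩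
def m2_t3 : T := (.node (.node (.node (.node (.node (.node .nil (nat_lit 14) (nat_lit 0) (nat_lit 14) .nil)
  (nat_lit 20) (nat_lit 19) (nat_lit 14) .nil) (nat_lit 23) (nat_lit 195) (nat_lit 38) (.node .nil (nat_lit
  30) (nat_lit 52) (nat_lit 20) .nil)) (nat_lit 37) (nat_lit 275) (nat_lit 51) (.node (.node (.node .nil
  (nat_lit 38) (nat_lit 98) (nat_lit 30) .nil) (nat_lit 44) (nat_lit 80) (nat_lit 30) .nil) (nat_lit 50)
  (nat_lit 290) (nat_lit 81) (.node .nil (nat_lit 51) (nat_lit 162) (nat_lit 44) .nil))) (nat_lit 52) (nat_lit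
  355) (nat_lit 64) (.node (.node (.node (.node .nil (nat_lit 57) (nat_lit 145) (nat_lit 44) .nil) (nat_lit
  62) (nat_lit 561) (nat_lit 71) .nil) (nat_lit 63) (nat_lit 386) (nat_lit 86) (.node .nil (nat_lit 64)
  (nat_lit 242) (nat_lit 57) .nil)) (nat_lit 66) (nat_lit 36) (nat_lit 14) (.node (.node .nil (nat_lit 71)
  (nat_lit 544) (nat_lit 78) .nil) (nat_lit 72) (nat_lit 450) (nat_lit 91) (.node .nil (nat_lit 73) (nat_lit
  64) (nat_lit 66) .nil)))) (nat_lit 78) (nat_lit 516) (nat_lit 72) (.node (.node (.node (.node (.node .nil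
  (nat_lit 79) (nat_lit 132) (nat_lit 73) .nil) (nat_lit 80) (nat_lit 113) (nat_lit 73) .nil) (nat_lit 81)
  (nat_lit 180) (nat_lit 44) (.node .nil (nat_lit 85) (nat_lit 212) (nat_lit 80) .nil)) (nat_lit 86) (nat_lit
  260) (nat_lit 57) (.node (.node .nil (nat_lit 90) (nat_lit 304) (nat_lit 85) .nil) (nat_lit 91) (nat_lit
  368) (nat_lit 86) (.node .nil (nat_lit 95) (nat_lit 468) (nat_lit 91) .nil))) (nat_lit 96) (nat_lit 226)
  (nat_lit 79) (.node (.node (.node (.node .nil (nat_lit 100) (nat_lit 340) (nat_lit 96) .nil) (nat_lit 101)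
  (nat_lit 322) (nat_lit 85) .nil) (nat_lit 104) (nat_lit 436) (nat_lit 101) (.node .nil (nat_lit 105)
  (nat_lit 402) (nat_lit 90) .nil)) (nat_lit 108) (nat_lit 496) (nat_lit 104) (.node (.node .nil (nat_lit 109)
  (nat_lit 531) (nat_lit 111) .nil) (nat_lit 111) (nat_lit 482) (nat_lit 116) (.node .nil (nat_lit 116)
  (nat_lit 420) (nat_lit 90) .nil)))))
def m2_l3 : Lvl := ⟨nat_lit 14, [nat_lit 0x3c79efdbaf4e7cb8f0dfbb6e8d7ab2eccf874e4c777360bf6715cad56f58a56ed54995e8d09f1e353972a13f9d362c475260c090f9ebc610dcb86ed93b44cc923b5eb969e56a8d186accbb1468899120b0e9c36a45284a24a94421101f1e3868c1664b080e182920608080, nat_lit 0x3c79efdbaf4e7cb8f0dfbb6ecd7ab4e4cf9b068c78ae65bf7ac61b76aa5daf467d9a72ab49ab3a6c4874a8487cf1dcc9709ab3651d8c68ae963852a20a580fdeb04280fb95665bb64e99a242c497ae5a78e9c36695182e8ca9426888901e3868c16284880e182840608080, nat_lit 0x3c79efabaefcfcb8e3e9bb6ecd7dad68e79aae4e18b0cfbf7aedc91a6cd8aeff2d4a749950c13a6cc552a4db8f19144330a0b9acf91bc242a0056ed9ab45944b045eb96b30f2d4a84e792897b150a03e9861c066a1982ec431426ec8901e3869d10e920b5655c303608080,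 nat_lit 0x3cf8eddf9dfebc31f2db9f7ecd5af4e8dd372e4e34e360e95e63cb56e944bd56b4ac5667b9a33b35d5d516488f85b584079eb47efa0dc504681b55158c04ac9a98452d1c916dccbb485d9a75abc9432d0831c70294b04c7ca8e0885d091e5068c56688080e742930608080, nat_lit 0x3c79eddf9daebc2bf2df4f6ec9b9b4e5c5ab460bd9e0e4b78db35bfd1728e2e6820dd2d65593235c5a50e7ce8ef663b943b0c07efa3318876b245576e3466c9e2b45651d160dccd8365d2b85abc9542c51d154e6948b4c7ce1e2684310070840c302848d0e442841e08080], [nat_lit 1, nat_lit 2, nat_lit 5, nat_lit 210, nat_lit 4307], m2_t3⟩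
def m2_t4 : T := (.node (.node (.node (.node (.node .nil (nat_lit 30) (nat_lit 0) (nat_lit 30) .nil) (nat_lit
  38) (nat_lit 34) (nat_lit 30) .nil) (nat_lit 44) (nat_lit 16) (nat_lit 30) (.node (.node .nil (nat_lit 50)
  (nat_lit 99) (nat_lit 44) .nil) (nat_lit 51) (nat_lit 82) (nat_lit 44) .nil)) (nat_lit 57) (nat_lit 65)
  (nat_lit 44) (.node (.node (.node .nil (nat_lit 63) (nat_lit 163) (nat_lit 57) .nil) (nat_lit 64) (nat_lit
  146) (nat_lit 57) .nil) (nat_lit 72) (nat_lit 240) (nat_lit 63) (.node .nil (nat_lit 79) (nat_lit 180)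
  (nat_lit 51) .nil))) (nat_lit 81) (nat_lit 52) (nat_lit 30) (.node (.node (.node (.node .nil (nat_lit 85)
  (nat_lit 273) (nat_lit 79) .nil) (nat_lit 86) (nat_lit 129) (nat_lit 81) .nil) (nat_lit 90) (nat_lit 260)
  (nat_lit 63) (.node .nil (nat_lit 91) (nat_lit 208) (nat_lit 86) .nil)) (nat_lit 96) (nat_lit 116) (nat_lit
  44) (.node (.node (.node .nil (nat_lit 101) (nat_lit 193) (nat_lit 96) .nil) (nat_lit 105) (nat_lit 228)
  (nat_lit 86) .nil) (nat_lit 111) (nat_lit 307) (nat_lit 90) (.node .nil (nat_lit 116) (nat_lit 291) (nat_lit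
  105) .nil))))
def m2_l4 : Lvl := ⟨nat_lit 30, [nat_lit 0x3c79efdbaf4e7cb8f0dfbb6e8d7ab2eccf874e4c777360bf6715cad56f58a56ed54995e8d09f1e353972a13f9d362c475260c090f9ebc610dcb86ed93b44cc923b5eb969e56a8d186accbb1468899120b0e9c36a45284a24a94421101f1e3868c1664b080e182920608080, nat_lit 0x3c79efdbaf4e7cb8f0dfbb6ecd7ab4e4cf9b068c78ae65bf7ac61b76aa5daf467d9a72ab49ab3a6c4874a8487cf1dcc9709ab3651d8c68ae963852a20a580fdeb04280fb95665bb64e99a242c497ae5a78e9c36695182e8ca9426888901e3868c16284880e182840608080, nat_lit 0x3c79efabaefcfcb8e3e9bb6ecd7dad68e79aae4e18b0cfbf7aedc91a6cd8aeff2d4a749950c13a6cc552a4db8f19144330a0b9acf91bc242a0056ed9ab45944b045eb96b30f2d4a84e792897b150a03e9861c066a1982ec431426ec8901e3869d10e920b5655c303608080, nat_lit 0x3c79cddb169e77b8f0b5bb6ecd7aba50cfdf2c9c7d70e09dcaedcb7becd8af02ad4a6dd9e89f7e6af96a72488eb62a1870a0d672f9e9f7631f89a4d9ab4a2b188798ba33208aa5281e99285468a22078785113668c8d2858a972648e104e38c3a1675c08601922b0608080,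 nat_lit 0x3c799af69f48b5e94bdf3345f8c8eb6d450729454d96acd8b97dcb6fdbd8e5a6ad4ebc4f4766d3beee0724c8a1af98d3a97340b4fbb0f5655cb1b38884e9e99c08bb7b0e0778d4934eca103d59d09a3f461ca12806182e15d64501c8b5783a2190818db02428b0b4808080], [nat_lit 1, nat_lit 2, nat_lit 3, nat_lit 5236, nat_lit 0x42846594293], m2_t4⟩
def m2_t5 : T := (.node (.node (.node (.node .nil (nat_lit 31) (nat_lit 0) (nat_lit 31) .nil) (nat_lit 45)
  (nat_lit 16) (nat_lit 31) .nil) (nat_lit 53) (nat_lit 97) (nat_lit 60) (.node .nil (nat_lit 60) (nat_lit 33)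
  (nat_lit 31) .nil)) (nat_lit 65) (nat_lit 50) (nat_lit 31) (.node (.node (.node .nil (nat_lit 70) (nat_lit
  80) (nat_lit 60) .nil) (nat_lit 102) (nat_lit 65) (nat_lit 45) .nil) (nat_lit 107) (nat_lit 114) (nat_lit
  60) (.node .nil (nat_lit 119) (nat_lit 129) (nat_lit 65) .nil)))
def m2_l5 : Lvl := ⟨nat_lit 31, [nat_lit 0x3c79efdbaf4e7cb8f0dfbb6ecd7ab4e4cf9b068c78ae65bf7ac61b76aa5daf467d9a72ab49ab3a6c4874a8487cf1dcc9709ab3651d8c68ae963852a20a580fdeb04280fb95665bb64e99a242c497ae5a78e9c36695182e8ca9426888901e3868c16284880e182840608080, nat_lit 0x3cf88c8e6554549baacabe8475af5ced8b06d2596da6d1d0ba9dc7f02bd8b3bf4d4bbc59ce64d30eec683256d9af3a8865fbc8e8fb535761ad89bdd4fdfc0b188bc5cb34f09c25211e9a49bedce229787851a0a44c8d2858ec23048e2720389ba0e541ab60312087008080, nat_lit 0x3c798c92674614a53adf132147825cdf099a8ed15893e0d178c105900893395991a1bcb2d09f387f53bc5a332fdd5ee2af8fda7f09c6b11c34bd6e85ac991541f35ea56db8a31728c2992f60a1db20827a5d72d5035d8e6e1ecb02ecdc9a3a9aa258f53b44651e76208080],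 [nat_lit 2, nat_lit 104048, nat_lit 0x111630], m2_t5⟩
def m2_t6 : T := (.node (.node (.node .nil (nat_lit 3) (nat_lit 0) (nat_lit 3) .nil) (nat_lit 9) (nat_lit 50)
  (nat_lit 61) .nil) (nat_lit 61) (nat_lit 16) (nat_lit 3) (.node .nil (nat_lit 106) (nat_lit 34) (nat_lit 3)
  .nil))
def m2_l6 : Lvl := ⟨nat_lit 3, [nat_lit 0x3c797892274612a93adf334148c2566d099b2df1588856c9789a772ccd183982a911bc68a57f387ee2bca4c085ac4753b1e0c89e5c1f757c2db140d96b4b4c9c7350b9ae976194afb89a876362d0b73e7a1d747646587c165ecba1ea619a3a999458f54524a8b677a08080, nat_lit 0x3cf85a8d7b944dd72a80d9a4782f5fce8b1a46497326e0a14a9dcab5abd8b36add4bb7a8df9fa30e2c72a4e5d99b3c4870b5efd2fb53c76eba38e5b9aed66c98b0ebc7bac57c14a84e992a4edcd0a03e78e9c3668c982e58a9426488901e3868c16284880e182840608080, nat_lit 0x3cf86a6d4551683886cbbb6c2d60e7e811077d02ad87da4ab86a7b780e1834cfa11274a8e4d2d084c14de4c8291822f3bb3340585c4ad56a9cb1958bbceacc9c228979e3f76e94f5b89afa348c10f23e7a1d9ed5c6587c171c7a61ea4dc23ae99e72dee725c0b45d408080],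 [nat_lit 1136, nat_lit 2114, nat_lit 3106], m2_t6⟩
def m2_t7 : T := (.node (.node .nil (nat_lit 34) (nat_lit 0) (nat_lit 34) .nil) (nat_lit 115) (nat_lit 16)
  (nat_lit 34) .nil)
def m2_l7 : Lvl := ⟨nat_lit 34, [nat_lit 0x3cf85a8d7b944dd72a80d9a4782f5fce8b1a46497326e0a14a9dcab5abd8b36add4bb7a8df9fa30e2c72a4e5d99b3c4870b5efd2fb53c76eba38e5b9aed66c98b0ebc7bac57c14a84e992a4edcd0a03e78e9c3668c982e58a9426488901e3868c16284880e182840608080, nat_lit 0x3c795a8d7b944dd72a80d9a4782f5fce8b1a46497326e0a14a9dcab5abd8b36add4bb7a8df9fa30e2c72a4e5d99b3c4870b5efd2fb53c76eba38e5b9aed66c98b0ebc7bac57c14a84e992a4edcd0a03e78e9c3668c982e58a9426488901e3868c16284880e182840608080], [nat_lit 2, nat_lit 1106], m2_t7⟩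
def m2_t8 : T := (.node (.node .nil (nat_lit 120) (nat_lit 0) (nat_lit 120) .nil) (nat_lit 121) (nat_lit 16)
  (nat_lit 120) .nil)
def m2_l8 : Lvl := ⟨nat_lit 120, [nat_lit 0x3c79efdbaf4e7cb8f0dfbb6ecd7ab4e8cf9b2e4c78b0e0bf7aedcb76acd8af5aad4a74a8d09f3a6cc972a4c88f1a2c4870a0c07ef9ebc76e9cb86ed9ab466c98b05eb96ac56a94a84e992a446890a03e78e9c3668c982e58a9426488901e3868c16284880e182840608080], [nat_lit 80], m2_t8⟩
def m2 : List Lvl := [m2_l0, m2_l1, m2_l2, m2_l3, m2_l4, m2_l5, m2_l6, m2_l7, m2_l8]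

end Cfsg.Agent.TC.Y5
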